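import Mathlib

/-!
# The generic fibre of a flat scheme over an integral scheme is scheme-theoretically dominant
-/

set_option autoImplicit false

universe u

open CategoryTheory CategoryTheory.Limits AlgebraicGeometry

namespace Groth.Agent.GenFibDom

theorem ker_eq_bot {T Y : Scheme.{u}} [IsIntegral T] (pY : Y ⟶ T) [Flat pY] :
    (pullback.fst pY (T.fromSpecStalk (genericPoint T))).ker = ⊥ := by
  let η := genericPoint T
  let p := pullback.fst pY (T.fromSpecStalk η)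
  let h𝒰 := Y.isBasis_affineOpens.isOpenCover_mem_and_le
    (T.isBasis_affineOpens.isOpenCover.comap pY.base.hom)
  refine Scheme.IdealSheafData.ext_of_iSup_eq_top (fun U ↦ ⟨_, by exact U.2.1⟩) h𝒰 ?_
  rintro ⟨⟨U, ⟨V, hV⟩⟩, hU, hUV : U ≤ pY ⁻¹ᵁ V⟩
  replace hV : IsAffineOpen V := hV
  replace hU : IsAffineOpen U := hU
  rw [Scheme.IdealSheafData.ideal_bot, Pi.bot_apply, ← le_bot_iff]
  refine (p.ideal_ker_le ⟨U, hU⟩).trans fun r hr => ?_
  rw [Submodule.mem_bot]
  rcases isEmpty_or_nonempty (V : Scheme.{u}) with hVe | hVne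
  · have hUe : U = ⊥ := le_bot_iff.1 fun x hx => (IsEmpty.false (α := (V : Scheme.{u})) ⟨pY x, hUV hx⟩).elim
    subst hUe
    exact Subsingleton.elim _ _
  have hηV : η ∈ V := (genericPoint_spec T).mem_open_set_iff V.2 |>.2 <| by
    obtain ⟨x⟩ := hVne
    exact ⟨x.1, trivial, x.2⟩
  let φ : Γ(T, V) ⟶ Γ(Y, U) := pY.appLE V U hUV
  let ρ : Γ(T, V) ⟶ T.presheaf.stalk η := T.presheaf.germ V η hηV
  have hρ : Function.Injective ρ.hom := by
    haveI : Nonempty (V : Scheme.{u}) := hVne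
    exact germ_injective_of_isIntegral T η hηV
  let W : CommRingCat.{u} := pushout ρ φ
  let inc : Γ(Y, U) ⟶ W := pushout.inr ρ φ
  let inr : T.presheaf.stalk η ⟶ W := pushout.inl ρ φ
  have hsq : φ ≫ inc = ρ ≫ inr := pushout.condition.symm
  have hinj : Function.Injective inc.hom :=
    CommRingCat.inr_injective_of_flat ρ φ hρ (pY.flat_appLE hV hU hUV)
  let l : Spec W ⟶ pullback pY (T.fromSpecStalk η) :=
    pullback.lift (Spec.map inc ≫ hU.fromSpec) (Spec.map inr) (by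
      rw [Category.assoc, ← IsAffineOpen.SpecMap_appLE_fromSpec pY hV hU hUV, ← Spec.map_comp_assoc,
        show pY.appLE V U hUV ≫ inc = ρ ≫ inr from hsq, Spec.map_comp_assoc,
        ← hV.fromSpecStalk_eq_fromSpecStalk hηV]
      rfl)
  have hl : l ≫ p = Spec.map inc ≫ hU.fromSpec := pullback.lift_fst _ _ _
  have e : ⊤ ≤ (l ≫ p) ⁻¹ᵁ U := by
    rw [hl, Scheme.Hom.comp_preimage, hU.fromSpec_preimage_self]
    exact le_rfl
  have h1 : (l ≫ p).appLE U ⊤ e = inc ≫ (Scheme.ΓSpecIso _).inv := by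
    rw [← Spec.map_inj, ← cancel_mono hU.fromSpec, IsAffineOpen.SpecMap_appLE_fromSpec _ hU (isAffineOpen_top _) e,
      IsAffineOpen.fromSpec_top, Scheme.isoSpec_Spec_inv, Spec.map_comp, Category.assoc, hl]
  have h2 : ((l ≫ p).appLE U ⊤ e).hom r = 0 := by
    rw [Scheme.Hom.comp_appLE, CommRingCat.comp_apply, RingHom.mem_ker.1 hr, map_zero]
  rw [h1, CommRingCat.comp_apply] at h2
  have h3 : inc.hom r = 0 := (ConcreteCategory.bijective_of_isIso (Scheme.ΓSpecIso _).inv).1 (h2.trans (map_zero _).symm)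
  exact hinj (h3.trans (map_zero _).symm)

theorem ext {T Y Z : Scheme.{u}} [IsIntegral T] {pY : Y ⟶ T} [Flat pY] {pZ : Z ⟶ T} [IsSeparated pZ]
    {φ₁ φ₂ : Y ⟶ Z} (h₁ : φ₁ ≫ pZ = pY) (h₂ : φ₂ ≫ pZ = pY)
    (h : pullback.fst pY (T.fromSpecStalk (genericPoint T)) ≫ φ₁ =
      pullback.fst pY (T.fromSpecStalk (genericPoint T)) ≫ φ₂) : φ₁ = φ₂ := by
  let f : Over.mk pY ⟶ Over.mk pZ := Over.homMk φ₁ h₁
  let g : Over.mk pY ⟶ Over.mk pZ := Over.homMk φ₂ h₂
  haveI : IsSeparated (Over.mk pZ).hom := ‹IsSeparated pZ›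
  let p := pullback.fst pY (T.fromSpecStalk (genericPoint T))
  let q : Over.mk (p ≫ pY) ⟶ equalizer f g :=
    equalizer.lift (Over.homMk p rfl) (Over.OverMorphism.ext h)
  have hq : q.left ≫ (equalizer.ι f g).left = p := by
    rw [← Over.comp_left, equalizer.lift_ι]
    rfl
  have hbot : (equalizer.ι f g).left.ker = ⊥ :=
    le_bot_iff.1 (((Scheme.Hom.le_ker_comp q.left _).trans (by rw [hq])).trans (ker_eq_bot pY).le)
  haveI := IsClosedImmersion.isIso_iff_ker_eq_bot.2 hbot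
  rw [← cancel_epi (equalizer.ι f g).left]
  exact congr($(equalizer.condition f g).left)

end Groth.Agent.GenFibDom
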